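import Cfsg.Agent.Lib.Block.DegreeRel.Keys

/-!
# The two sides of the relative common-divisor graph

For a prime `r` dividing `[N : N']` the degrees divisible by `r` are pairwise adjacent, and the
others are at distance at most two from each degree carrying an orbit key; hence at most two
components.
-/

set_option autoImplicit false
set_option linter.style.haveILetI false
set_option linter.unusedSectionVars false

open Cfsg
open scoped ComplexConjugate

namespace Cfsg.Agent.Block.DegreeRel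

open Cfsg.Agent Cfsg.Agent.Char

universe u

variable {G : Type u} [Group G] [Fintype G] {N : Subgroup G} [hN : N.Normal] [Fintype N] {r : ℕ}

/-- The vertices. -/
abbrev Vtx (N : Subgroup G) := ↥(relCharDegrees N)

/-- The graph. -/
abbrev rGraph (N : Subgroup G) : SimpleGraph (Vtx N) := commonDivisorGraph.induce (relCharDegrees N)

theorem vtx_pos (b : Vtx N) : 0 < (b : ℕ) := by
  obtain ⟨χ, -, hd⟩ := b.2
  exact hd ▸ charDeg_pos χ

/-- Equal or adjacent. -/
def Near (b c : Vtx N) : Prop := b = c ∨ (rGraph N).Adj b c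

theorem near_of_dvd {k : ℕ} (hk : k ≠ 1) {b c : Vtx N} (hb : k ∣ (b : ℕ)) (hc : k ∣ (c : ℕ)) :
    Near b c := by
  by_cases h : b = c
  · exact Or.inl h
  refine Or.inr ⟨fun e => h (Subtype.ext e), ?_⟩
  have hg := Nat.dvd_gcd hb hc
  have hpos : 0 < Nat.gcd (b : ℕ) c := Nat.gcd_pos_of_pos_left _ (vtx_pos b)
  rcases Nat.lt_or_ge 1 (Nat.gcd (b : ℕ) c) with h1 | h1
  · exact h1
  · exact absurd (Nat.dvd_one.1 (by rwa [show Nat.gcd (b : ℕ) c = 1 by omega] at hg)) hk

theorem Near.symm {b c : Vtx N} (h : Near b c) : Near c b :=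
  h.elim (fun e => Or.inl e.symm) fun e => Or.inr e.symm

theorem Near.reach {b c : Vtx N} (h : Near b c) : (rGraph N).Reachable b c :=
  h.elim (fun e => e ▸ SimpleGraph.Reachable.refl _) fun e => e.reachable

/-- Equal, adjacent, or with a common neighbour. -/
def Close (b c : Vtx N) : Prop :=
  b = c ∨ (rGraph N).Adj b c ∨ ∃ d, (rGraph N).Adj b d ∧ (rGraph N).Adj d c

theorem Near.close {b c : Vtx N} (h : Near b c) : Close b c := h.elim Or.inl fun e => Or.inr (Or.inl e)

theorem Near.trans {b c d : Vtx N} (h : Near b c) (h' : Near c d) : Close b d := by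
  rcases h with rfl | h
  · exact h'.close
  · rcases h' with rfl | h'
    · exact Or.inr (Or.inl h)
    · exact Or.inr (Or.inr ⟨c, h, h'⟩)

theorem Close.symm {b c : Vtx N} (h : Close b c) : Close c b := by
  rcases h with rfl | h | ⟨d, h1, h2⟩
  · exact Or.inl rfl
  · exact Or.inr (Or.inl h.symm)
  · exact Or.inr (Or.inr ⟨d, h2.symm, h1.symm⟩)

theorem Close.reach {b c : Vtx N} (h : Close b c) : (rGraph N).Reachable b c := by
  rcases h with rfl | h | ⟨d, h1, h2⟩
  · exact SimpleGraph.Reachable.refl _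
  · exact h.reachable
  · exact h1.reachable.trans h2.reachable

theorem hone (a : N →* ℂˣ) : a * 1 = a := MonoidHom.ext fun n => by simp

theorem hone' (a : N →* ℂˣ) : 1 * a = a := MonoidHom.ext fun n => by simp

theorem hcancel (a b : N →* ℂˣ) : a * b * b⁻¹ = a := MonoidHom.ext fun n => by simp

theorem hcomm (a b : N →* ℂˣ) : a * b = b * a := MonoidHom.ext fun n => by simp [mul_comm]

theorem hassoc (a b c : N →* ℂˣ) : a * b * c = a * (b * c) :=
  MonoidHom.ext fun n => by simp [mul_assoc]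

theorem hinv_mul (a b : N →* ℂˣ) : a⁻¹ * (a * b) = b := MonoidHom.ext fun n => by simp

/-- A linear character as an irreducible character. -/
noncomputable def linIrr (ν : N →* ℂˣ) : IrrCharacter N := ⟨_, isIrr_linear ν⟩

theorem detH_linIrr (ν : N →* ℂˣ) : detH (linIrr ν) = ν := detH_linear _ ν rfl

theorem linIrr_ne {ν : N →* ℂˣ} (h : ν ≠ 1) : ((linIrr ν : IrrCharacter N) : N → ℂ) ≠ fun _ => 1 :=
  fun e => h (hom_ext_coe fun n => (congrFun e n).trans (by simp))

theorem stab_inv (ν : N →* ℂˣ) : stab ν ≤ stab ν⁻¹ := by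
  have e : ν⁻¹ = ν ^ (Nat.card N - 1) := MonoidHom.ext fun n => by
    rw [MonoidHom.inv_apply, MonoidHom.pow_apply]
    refine inv_eq_of_mul_eq_one_right ?_
    rw [← pow_succ', Nat.sub_add_cancel Nat.card_pos, ← map_pow, pow_card_eq_one', map_one]
  exact e ▸ stab_pow _ _

theorem stab_one : stab (1 : N →* ℂˣ) = ⊤ := eq_top_iff.2 fun g _ => (mem_inertia N).2 rfl

theorem pp_other {s : ℕ} (hr : r.Prime) (hs : s.Prime) (hrs : r ≠ s) {l : N →* ℂˣ} (h : Key r l) :
    pp s l = 1 := by
  obtain ⟨j, hj, -⟩ := h.orderOf_eq hr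
  have h1 : orderOf l ∣ ordCompl[s] (Nat.card N) := by
    have h2 := ord_dvd l _ (pow_card l)
    rw [← Nat.ordProj_mul_ordCompl_eq_self (Nat.card N) s, hj] at h2
    rw [hj]
    exact (Nat.Coprime.pow _ _ ((Nat.coprime_primes hr hs).2 hrs)).dvd_of_dvd_mul_left h2
  have h3 : orderOf l ∣ aExp N s := h1.trans (Nat.modEq_zero_iff_dvd.1 (aExp_spec hs).2)
  refine MonoidHom.ext fun n => ?_
  obtain ⟨c, hc⟩ := h3
  have h4 : l n ^ orderOf l = 1 := by
    rw [← MonoidHom.pow_apply, pow_orderOf_eq_one, MonoidHom.one_apply]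
  rw [pp, MonoidHom.pow_apply, hc, pow_mul, h4, one_pow, MonoidHom.one_apply]

/-- A degree prime to `r` with an orbit key. -/
def InB (r : ℕ) (b : Vtx N) : Prop :=
  ¬ r ∣ (b : ℕ) ∧ ∃ ν : N →* ℂˣ, Key r ν ∧ (stab ν).index ≠ 1 ∧ (stab ν).index ∣ (b : ℕ)

theorem inB_of_over (hNG : N ≤ commutator G) (hr : r.Prime) {χ : IrrCharacter G}
    {φ : IrrCharacter N} (h : Over χ φ) {b : Vtx N} (hb : charDegree (χ : G → ℂ) = b)
    (hν : pp r (detH φ) ≠ 1) (hχ : ¬ r ∣ (b : ℕ)) : InB r b := by
  obtain ⟨h1, h2⟩ := bad_or_orbit hNG hr h hν (hb ▸ hχ)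
  exact ⟨hχ, _, ⟨hν, pp_pow hr _⟩, h1, hb ▸ h2⟩

/-- Some vertex lies over a linear character with a prescribed stabiliser bound. -/
theorem over_lin {μ : N →* ℂˣ} (hμ : μ ≠ 1) :
    ∃ (χ : IrrCharacter G) (c : Vtx N), Over χ (linIrr μ) ∧ charDegree (χ : G → ℂ) = c ∧
      (stab μ).index ∣ (c : ℕ) := by
  obtain ⟨χ, hχ⟩ := exists_over (G := G) (linIrr μ)
  have h := orbit_dvd hχ
  exact ⟨χ, ⟨charDegree (χ : G → ℂ), over_mem hχ (linIrr_ne hμ)⟩, hχ, rfl, h⟩

theorem orbit_card (ν : N →* ℂˣ) [DecidableEq (N →* ℂˣ)] :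
    (Finset.univ.image fun g : G => ν.comp (conjEquivN N g).toMonoidHom).card = (stab ν).index := by
  rw [← card_conjOrbit, ← Finset.card_image_of_injective _
    (show Function.Injective (fun l : N →* ℂˣ => fun n : N => (l n : ℂ)) from
      fun a b h => hom_ext_coe (congrFun h)), Finset.image_image]
  refine congrArg Finset.card (Finset.ext fun f => ?_)
  simp only [Finset.mem_image, Finset.mem_univ, true_and, Function.comp_apply, mem_conjOrbit,
    conjN_eq_comp]
  rfl

/-- Two coprime orbit sizes: the orbit of the product meets both. -/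
theorem coprime_keys {ν μ : N →* ℂˣ} (hr : r.Prime) (hν : Key r ν) (hνt : (stab ν).index ≠ 1)
    (hμt : ¬ r ∣ (stab μ).index) (hcop : Nat.Coprime (stab ν).index (stab μ).index) :
    Nat.gcd (stab (ν * μ)).index (stab ν).index ≠ 1 := by
  classical
  intro hgcd
  set U := stab ν with hU
  set V := stab μ with hV
  set Z := stab (ν * μ) with hZ
  have hUV : (U ⊓ V).index = U.index * V.index := Nat.le_antisymm Subgroup.index_inf_le
    (Nat.le_of_dvd (Nat.pos_of_ne_zero Subgroup.index_ne_zero_of_finite)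
      (hcop.mul_dvd_of_dvd_of_dvd (Subgroup.index_dvd_of_le inf_le_left)
        (Subgroup.index_dvd_of_le inf_le_right)))
  have hz1 : Z.index ∣ V.index := by
    refine (Nat.Coprime.dvd_of_dvd_mul_left hgcd ?_)
    exact hUV ▸ Subgroup.index_dvd_of_le (stab_mul ν μ)
  have hle1 : Z ⊓ V ≤ U := by
    have h := stab_mul (ν * μ) μ⁻¹
    rw [hcancel] at h
    exact fun g hg => h ⟨hg.1, stab_inv μ hg.2⟩
  have hle2 : Z ⊓ U ≤ V := by
    have h := stab_mul (ν * μ) ν⁻¹
    rw [hcomm ν μ, hcancel, hcomm μ ν] at h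
    exact fun g hg => h ⟨hg.1, stab_inv ν hg.2⟩
  have hVpos : 0 < V.index := Nat.pos_of_ne_zero Subgroup.index_ne_zero_of_finite
  have hUpos : 0 < U.index := Nat.pos_of_ne_zero Subgroup.index_ne_zero_of_finite
  have h3 : U.index * V.index ≤ Z.index * U.index := by
    rw [← hUV]
    exact (Nat.le_of_dvd (Nat.pos_of_ne_zero Subgroup.index_ne_zero_of_finite)
      (Subgroup.index_dvd_of_le (show Z ⊓ U ≤ U ⊓ V from le_inf inf_le_right hle2))).trans
      Subgroup.index_inf_le
  have hz : Z.index = V.index := Nat.le_antisymm (Nat.le_of_dvd hVpos hz1)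
    (Nat.le_of_mul_le_mul_right (by rwa [mul_comm U.index] at h3) hUpos)
  -- all pairs of conjugates are simultaneous
  let F : G ⧸ (U ⊓ V) → (G ⧸ U) × (G ⧸ V) := fun x => (Subgroup.quotientMapOfLE inf_le_left x,
    Subgroup.quotientMapOfLE inf_le_right x)
  have hF : Function.Surjective F := by
    have hinj : Function.Injective F := by
      intro a b
      induction a using QuotientGroup.induction_on with
      | _ a =>
        induction b using QuotientGroup.induction_on with
        | _ b =>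
          intro h
          simp only [F, Subgroup.quotientMapOfLE_apply_mk, Prod.mk.injEq, QuotientGroup.eq] at h
          exact QuotientGroup.eq.2 ⟨h.1, h.2⟩
    haveI : Fintype (G ⧸ (U ⊓ V)) := Fintype.ofFinite _
    haveI : Fintype ((G ⧸ U) × (G ⧸ V)) := Fintype.ofFinite _
    refine ((Fintype.bijective_iff_injective_and_card F).2 ⟨hinj, ?_⟩).2
    rw [← Nat.card_eq_fintype_card, ← Nat.card_eq_fintype_card, Nat.card_prod,
      ← Subgroup.index_eq_card, ← Subgroup.index_eq_card, ← Subgroup.index_eq_card, hUV]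
  let conjH : G → (N →* ℂˣ) → (N →* ℂˣ) := fun g l => l.comp (conjEquivN N g).toMonoidHom
  have hconjH : ∀ (a g : G) (l : N →* ℂˣ), a ∈ stab l → conjH (a * g) l = conjH g l := by
    intro a g l ha
    refine hom_ext_coe fun n => ?_
    have h := congrFun (congrArg (conjN N g) ((mem_inertia N).1 ha)) n
    rw [← conjN_mul] at h
    simp only [conjN_eq_comp] at h
    exact h
  have hpair : ∀ g h : G, ∃ k : G, conjH k ν = conjH g ν ∧ conjH k μ = conjH h μ := by
    intro g h
    obtain ⟨x, hx⟩ := hF (QuotientGroup.mk g⁻¹, QuotientGroup.mk h⁻¹)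
    induction x using QuotientGroup.induction_on with
    | _ k =>
      simp only [F, Subgroup.quotientMapOfLE_apply_mk, Prod.mk.injEq, QuotientGroup.eq] at hx
      refine ⟨k⁻¹, ?_, ?_⟩
      · rw [show k⁻¹ = (k⁻¹ * g⁻¹) * g by group]
        exact hconjH _ _ _ hx.1
      · rw [show k⁻¹ = (k⁻¹ * h⁻¹) * h by group]
        exact hconjH _ _ _ hx.2
  set O := Finset.univ.image fun g : G => μ.comp (conjEquivN N g).toMonoidHom with hO
  set Oz := Finset.univ.image fun g : G => (ν * μ).comp (conjEquivN N g).toMonoidHom with hOz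
  have hmap : ∀ g : G, O.image (fun x => conjH g ν * x) = Oz := by
    intro g
    refine Finset.eq_of_subset_of_card_le (fun y hy => ?_) ?_
    · obtain ⟨x, hx, rfl⟩ := Finset.mem_image.1 hy
      obtain ⟨h, -, rfl⟩ := Finset.mem_image.1 hx
      obtain ⟨k, hk1, hk2⟩ := hpair g h
      refine Finset.mem_image.2 ⟨k, Finset.mem_univ _, ?_⟩
      show _ = conjH g ν * conjH h μ
      rw [← hk1, ← hk2]
      rfl
    · rw [Finset.card_image_of_injective _ (fun a b h => mul_left_cancel h), hOz, hO, orbit_card,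
        orbit_card, ← hZ, ← hV, hz]
  obtain ⟨g₀, hg₀⟩ : ∃ g : G, conjH g ν ≠ ν := by
    by_contra hall
    push Not at hall
    refine hνt (Subgroup.index_eq_one.2 (eq_top_iff.2 fun g _ => (mem_inertia N).2 (funext fun n => ?_)))
    have h := congrArg (fun l : N →* ℂˣ => (l n : ℂ)) (hall g)
    rw [conjN_eq_comp]
    exact h
  set q := ν⁻¹ * conjH g₀ ν with hq
  have hstable : ∀ x ∈ O, q * x ∈ O := by
    intro x hx
    have h1 : conjH g₀ ν * x ∈ O.image (fun y => conjH 1 ν * y) :=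
      (hmap 1).symm ▸ (hmap g₀) ▸ Finset.mem_image_of_mem _ hx
    obtain ⟨y, hy, hyx⟩ := Finset.mem_image.1 h1
    have e : conjH 1 ν = ν := hom_ext_coe fun n => by
      have h := congrFun (conjN_one N fun m : N => (ν m : ℂ)) n
      rw [conjN_eq_comp] at h
      exact h
    rw [e] at hyx
    rwa [hq, hassoc, ← hyx, hinv_mul]
  have hqne : q ≠ 1 := fun h => hg₀ (inv_mul_eq_one.1 h).symm
  have hqord : r ∣ orderOf q := by
    have hq' : Key r q := by
      refine ⟨hqne, MonoidHom.ext fun n => ?_⟩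
      have h1 : ∀ m, ν m ^ ordProj[r] (Nat.card N) = 1 := fun m => by
        rw [← MonoidHom.pow_apply, hν.2, MonoidHom.one_apply]
      rw [MonoidHom.pow_apply, hq, MonoidHom.mul_apply, MonoidHom.inv_apply, mul_pow, inv_pow, h1,
        MonoidHom.one_apply, MonoidHom.comp_apply, h1, inv_one, one_mul]
    obtain ⟨-, -, h⟩ := hq'.orderOf_eq hr
    exact h
  have hdvd : orderOf q ∣ O.card := by
    have hst : ∀ (k : ℕ) (x : N →* ℂˣ), x ∈ O → q ^ k * x ∈ O := by
      intro k
      induction k with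
      | zero =>
        intro x hx
        rwa [show q ^ 0 * x = x from MonoidHom.ext fun n => by simp]
      | succ j ih =>
        intro x hx
        rw [show q ^ (j + 1) * x = q * (q ^ j * x) from MonoidHom.ext fun n => by
          simp [pow_succ', mul_assoc]]
        exact hstable _ (ih x hx)
    have hfin : IsOfFinOrder q := isOfFinOrder_iff_pow_eq_one.2
      ⟨Nat.card N, Nat.card_pos, pow_card q⟩
    set S : Set ((N →* ℂˣ) ⧸ Subgroup.zpowers q) := QuotientGroup.mk '' (O : Set (N →* ℂˣ)) with hS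
    have hpre : QuotientGroup.mk ⁻¹' S = (O : Set (N →* ℂˣ)) := by
      refine Set.Subset.antisymm (fun x hx => ?_) (Set.subset_preimage_image _ _)
      obtain ⟨y, hy, hyx⟩ := hx
      obtain ⟨k, hk⟩ := hfin.mem_zpowers_iff_mem_range_orderOf.1 (QuotientGroup.eq.1 hyx) |>
        Finset.mem_image.1
      have e1 : q ^ k = y⁻¹ * x := hk.2
      rw [show x = q ^ k * y from MonoidHom.ext fun n => by
        have e2 := DFunLike.congr_fun e1 n
        simp only [MonoidHom.pow_apply, MonoidHom.mul_apply, MonoidHom.inv_apply] at e2 ⊢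
        rw [e2, mul_comm, mul_inv_cancel_left]]
      exact hst k y (Finset.mem_coe.1 hy)
    have h := Nat.card_congr (QuotientGroup.preimageMkEquivSubgroupProdSet (Subgroup.zpowers q) S)
    rw [hpre, Nat.card_prod, Nat.card_zpowers, Nat.card_coe_set_eq, Set.ncard_coe_finset] at h
    exact h ▸ dvd_mul_right _ _
  rw [hO, orbit_card] at hdvd
  exact hμt (hqord.trans hdvd)

/-- Two degrees with orbit keys are close. -/
theorem inB_close (hr : r.Prime) {b b' : Vtx N} (h : InB r b) (h' : InB r b') : Close b b' := by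
  obtain ⟨hb, ν, hν, ht, htb⟩ := h
  obtain ⟨hb', μ, hμ, ht', htb'⟩ := h'
  by_cases hcop : Nat.Coprime (stab ν).index (stab μ).index
  · have hne : ν * μ ≠ 1 := fun e => by
      obtain rfl : μ = ν⁻¹ := by
        rw [← hinv_mul ν μ, e, hone]
      have hle : (stab ν⁻¹).index ∣ (stab ν).index := Subgroup.index_dvd_of_le (stab_inv ν)
      exact ht' (Nat.eq_one_of_dvd_coprimes hcop hle dvd_rfl)
    obtain ⟨χ, c, -, -, hz⟩ := over_lin (G := G) hne
    have h1 := coprime_keys hr hν ht (fun h => hb' (h.trans htb')) hcop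
    have h2 := coprime_keys hr hμ ht' (fun h => hb (h.trans htb)) hcop.symm
    rw [hcomm μ ν] at h2
    exact (near_of_dvd h1 ((Nat.gcd_dvd_right _ _).trans htb) ((Nat.gcd_dvd_left _ _).trans hz)).trans
      (near_of_dvd h2 ((Nat.gcd_dvd_left _ _).trans hz) ((Nat.gcd_dvd_right _ _).trans htb'))
  · exact (near_of_dvd hcop ((Nat.gcd_dvd_left _ _).trans htb)
      ((Nat.gcd_dvd_right _ _).trans htb')).close

/-- A degree prime to `r` has a key, or is near a vertex over every key. -/
theorem classify (hNG : N ≤ commutator G) (hr : r.Prime) (d : Vtx N) (hd : ¬ r ∣ (d : ℕ)) :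
    InB r d ∨ ∀ l : N →* ℂˣ, Key r l → ∃ c : Vtx N, Near d c ∧ (stab l).index ∣ (c : ℕ) ∧
      (r ∣ (c : ℕ) ∨ InB r c) := by
  obtain ⟨χ, φ, hχ, hφ1, hχd⟩ := mem_exists d.2
  by_cases hν : pp r (detH φ) = 1
  swap
  · exact Or.inl (inB_of_over hNG hr hχ hχd hν hd)
  refine Or.inr fun l hl => ?_
  have hφd : charDegree (φ : N → ℂ) ∣ (d : ℕ) := hχd ▸ deg_dvd hχ
  have hφr : ¬ r ∣ charDegree (φ : N → ℂ) := fun h => hd (h.trans hφd)
  obtain ⟨l₀, hl₀⟩ : ∃ l₀ : N →* ℂˣ, l₀ ^ charDegree (φ : N → ℂ) = l := by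
    obtain ⟨j, hj, -⟩ := hl.orderOf_eq hr
    have hc : Nat.Coprime (charDegree (φ : N → ℂ)) (r ^ j) :=
      Nat.Coprime.pow_right _ ((hr.coprime_iff_not_dvd.2 hφr).symm)
    obtain ⟨k, hk⟩ := Nat.exists_mul_mod_eq_one_of_coprime hc (by
      rw [← hj]
      exact Nat.one_lt_iff_ne_zero_and_ne_one.2 ⟨orderOf_linear_ne_zero l, fun h =>
        hl.1 (orderOf_eq_one_iff.1 h)⟩)
    refine ⟨l ^ k, MonoidHom.ext fun n => ?_⟩
    have h4 : l n ^ (r ^ j) = 1 := by
      rw [← hj, ← MonoidHom.pow_apply, pow_orderOf_eq_one, MonoidHom.one_apply]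
    rw [MonoidHom.pow_apply, MonoidHom.pow_apply, ← pow_mul, mul_comm k, pow_eq_pow_mod _ h4, hk.2,
      pow_one]
  let φ' : IrrCharacter N := ⟨_, IsIrr.mul_linear φ.2 l₀⟩
  have hdet : pp r (detH φ') = l := by
    rw [detH_mul_linear φ φ' l₀ rfl, hl₀, pp_mul, hν, hone, pp_of hr hl.2]
  have hstab : inertia N (φ' : N → ℂ) ≤ stab l := by
    rw [← hdet]
    exact (inertia_le_det φ').trans (stab_pow _ _)
  have hφ'1 : (φ' : N → ℂ) ≠ fun _ => 1 := fun e => by
    have : detH φ' = 1 := detH_linear φ' 1 (e.trans (funext fun n => by simp))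
    rw [this] at hdet
    refine hl.1 (hdet.symm.trans (MonoidHom.ext fun n => ?_))
    simp [pp]
  obtain ⟨χ', hχ'⟩ := exists_over (G := G) φ'
  let c : Vtx N := ⟨_, over_mem hχ' hφ'1⟩
  have hcd : charDegree (χ' : G → ℂ) = c := rfl
  have hc2 : (stab l).index ∣ (c : ℕ) := (Subgroup.index_dvd_of_le hstab).trans (orbit_dvd hχ')
  refine ⟨c, ?_, hc2, (em (r ∣ (c : ℕ))).imp_right fun h =>
    inB_of_over hNG hr hχ' hcd (by rw [hdet]; exact hl.1) h⟩
  by_cases h1 : charDegree (φ : N → ℂ) = 1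
  swap
  · refine near_of_dvd h1 hφd ?_
    have h2 : charDegree (φ' : N → ℂ) = charDegree (φ : N → ℂ) := by
      show charDegree (fun n => (l₀ n : ℂ) * (φ : N → ℂ) n) = _
      simp [charDegree]
    exact h2 ▸ deg_dvd hχ'
  · obtain ⟨μ, hμ⟩ := linearHom_of_isCharacter (IsIrr.isCharacter φ.2) (by
      rw [charDeg_spec' φ, h1, Nat.cast_one])
    have hdμ : detH φ = μ := detH_linear φ μ hμ
    have hμ1 : μ ≠ 1 := fun e => hφ1 (by rw [hμ, e]; funext n; simp)
    have hl0 : l₀ = l := by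
      rw [← hl₀, h1]
      exact MonoidHom.ext fun n => by simp
    have hφ'μ : (φ' : N → ℂ) = fun n => ((l * μ) n : ℂ) := funext fun n => by
      show (l₀ n : ℂ) * (φ : N → ℂ) n = _
      rw [hl0, hμ, MonoidHom.mul_apply, Units.val_mul]
    have hdφ' : detH φ' = l * μ := detH_linear φ' _ hφ'μ
    have hμle : inertia N (φ' : N → ℂ) ≤ stab μ := fun g hg => by
      have h3 : g ∈ stab (l * μ) := by rw [hφ'μ] at hg; exact hg
      have h := stab_mul (l * μ) l⁻¹ ⟨h3, stab_inv l (hstab hg)⟩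
      rwa [hcomm l μ, hcancel] at h
    by_cases htμ : (stab μ).index = 1
    swap
    · refine near_of_dvd htμ ?_ ((Subgroup.index_dvd_of_le hμle).trans (orbit_dvd hχ'))
      have h3 := orbit_dvd hχ
      rw [hμ, hχd] at h3
      exact h3
    · obtain ⟨s, hs, hsμ⟩ := exists_pp_ne hμ1
      have hsr : r ≠ s := fun e => hsμ (by rw [← e, ← hdμ, hν])
      have htop : (stab (pp s μ)).index = 1 := Nat.dvd_one.1 (htμ ▸
        Subgroup.index_dvd_of_le (stab_pow μ _))
      refine near_of_dvd hs.ne_one ?_ ?_ (k := s)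
      · by_contra h
        obtain ⟨h4, -⟩ := bad_or_orbit hNG hs hχ (by rw [hdμ]; exact hsμ) (hχd.symm ▸ h)
        rw [hdμ] at h4
        exact h4 htop
      · by_contra h
        have e : pp s (detH φ') = pp s μ := by
          rw [hdφ', pp_mul, pp_other hr hs hsr hl, hone']
        obtain ⟨h4, -⟩ := bad_or_orbit hNG hs hχ' (e ▸ hsμ) (hcd.symm ▸ h)
        rw [e] at h4
        exact h4 htop

/-- Every degree prime to `r` is close to every degree with a key. -/
theorem rest_close (hNG : N ≤ commutator G) (hr : r.Prime) {d b : Vtx N} (hd : ¬ r ∣ (d : ℕ))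
    (hb : InB r b) : Close d b := by
  rcases classify hNG hr d hd with h | h
  · exact inB_close hr h hb
  · obtain ⟨-, ν, hν, ht, htb⟩ := hb
    obtain ⟨c, hdc, htc, -⟩ := h ν hν
    exact hdc.trans (near_of_dvd ht htc htb)

/-- A disconnected graph is split by divisibility by `r`. -/
theorem dichotomy (hNG : N ≤ commutator G) (hr : r.Prime) (hrm : r ∣ (commutator N).index)
    (hdisc : ¬ (rGraph N).Preconnected) :
    (∃ b : Vtx N, InB r b) ∧
      ∀ d e : Vtx N, (rGraph N).Reachable d e ↔ (r ∣ (d : ℕ) ↔ r ∣ (e : ℕ)) := by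
  have hA : ∀ d e : Vtx N, r ∣ (d : ℕ) → r ∣ (e : ℕ) → (rGraph N).Reachable d e :=
    fun d e h h' => (near_of_dvd hr.ne_one h h').reach
  have hB : ∃ b : Vtx N, InB r b := by
    by_contra hno
    push Not at hno
    obtain ⟨l, hl⟩ := exists_key hr hrm
    have hlink : ∀ d : Vtx N, ∃ a : Vtx N, r ∣ (a : ℕ) ∧ (rGraph N).Reachable d a := by
      intro d
      by_cases hd : r ∣ (d : ℕ)
      · exact ⟨d, hd, SimpleGraph.Reachable.refl _⟩
      · rcases classify hNG hr d hd with h | h
        · exact absurd h (hno d)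
        · obtain ⟨c, hdc, -, hc⟩ := h l hl
          exact ⟨c, hc.resolve_right (hno c), hdc.reach⟩
    refine hdisc fun d e => ?_
    obtain ⟨a, ha, hda⟩ := hlink d
    obtain ⟨a', ha', hea'⟩ := hlink e
    exact hda.trans ((hA a a' ha ha').trans hea'.symm)
  obtain ⟨b, hb⟩ := hB
  have hC : ∀ d : Vtx N, ¬ r ∣ (d : ℕ) → (rGraph N).Reachable d b :=
    fun d hd => (rest_close hNG hr hd hb).reach
  refine ⟨⟨b, hb⟩, fun d e => ⟨fun h => ?_, fun h => ?_⟩⟩
  · have key : ∀ a x : Vtx N, r ∣ (a : ℕ) → ¬ r ∣ (x : ℕ) → ¬ (rGraph N).Reachable a x := by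
      intro a x ha hx hax
      have hall : ∀ y : Vtx N, (rGraph N).Reachable y a := fun y => by
        by_cases hy : r ∣ (y : ℕ)
        · exact hA y a hy ha
        · exact (hC y hy).trans ((hC x hx).symm.trans hax.symm)
      exact hdisc fun y z => (hall y).trans (hall z).symm
    by_cases hd : r ∣ (d : ℕ) <;> by_cases he : r ∣ (e : ℕ)
    · exact iff_of_true hd he
    · exact absurd h (key d e hd he)
    · exact absurd h.symm (key e d he hd)
    · exact iff_of_false hd he
  · by_cases hd : r ∣ (d : ℕ)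
    · exact hA d e hd (h.1 hd)
    · exact (hC d hd).trans (hC e fun he => hd (h.2 he)).symm

/-- In a disconnected graph all primes of `[N : N']` lie on the same side. -/
theorem same_side (hNG : N ≤ commutator G) {s : ℕ} (hr : r.Prime) (hs : s.Prime)
    (hrm : r ∣ (commutator N).index) (hsm : s ∣ (commutator N).index)
    (hdisc : ¬ (rGraph N).Preconnected) (d : Vtx N) : r ∣ (d : ℕ) ↔ s ∣ (d : ℕ) := by
  obtain ⟨⟨b, hb⟩, h1⟩ := dichotomy hNG hr hrm hdisc
  obtain ⟨⟨b', hb'⟩, h2⟩ := dichotomy hNG hs hsm hdisc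
  by_cases hrs : r = s
  · subst hrs; exact Iff.rfl
  have hequiv : ∀ x y : Vtx N, (r ∣ (x : ℕ) ↔ r ∣ (y : ℕ)) ↔ (s ∣ (x : ℕ) ↔ s ∣ (y : ℕ)) :=
    fun x y => (h1 x y).symm.trans (h2 x y)
  obtain ⟨ν, hν, ht, htb⟩ := hb.2
  obtain ⟨μ, hμ, ht', htb'⟩ := hb'.2
  have hpr : pp r (ν * μ) = ν := by
    rw [pp_mul, pp_of hr hν.2, pp_other hs hr (Ne.symm hrs) hμ, hone]
  have hps : pp s (ν * μ) = μ := by
    rw [pp_mul, pp_of hs hμ.2, pp_other hr hs hrs hν, hone']
  have hne : ν * μ ≠ 1 := fun e => hν.1 (by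
    rw [← hpr, e]; exact MonoidHom.ext fun n => by simp [pp])
  obtain ⟨χ, c, -, -, hz⟩ := over_lin (G := G) hne
  have hle1 : (stab ν).index ∣ (c : ℕ) :=
    (Subgroup.index_dvd_of_le (show stab (ν * μ) ≤ stab ν by
      conv_rhs => rw [← hpr]
      exact stab_pow (ν * μ) _)).trans hz
  have hle2 : (stab μ).index ∣ (c : ℕ) :=
    (Subgroup.index_dvd_of_le (show stab (ν * μ) ≤ stab μ by
      conv_rhs => rw [← hps]
      exact stab_pow (ν * μ) _)).trans hz
  have hbb' : (rGraph N).Reachable b b' :=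
    (near_of_dvd ht htb hle1).reach.trans (near_of_dvd ht' hle2 htb').reach
  have e1 := (h1 b b').1 hbb'
  have e2 := (h2 b b').1 hbb'
  have := hequiv d b
  have := hb.1
  have := hb'.1
  tauto

theorem relIndex_commutator : ⁅N, N⁆.relIndex N = (commutator N).index := by
  rw [← Subgroup.map_subtype_commutator, Subgroup.relIndex, Subgroup.subgroupOf,
    Subgroup.comap_map_eq_self_of_injective N.subtype_injective]

end Cfsg.Agent.Block.DegreeRel
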