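import Cfsg.Agent.Lib.Char.ExtendMain
import Cfsg.Agent.Lib.Char.PPrimeDegree
import Cfsg.Agent.Lib.Char.PSolvableIto
import Cfsg.Agent.Lib.Block.PPartDerived
import Cfsg.Prelude.Def_DegreeGraph

/-!
# Keys of the relative degrees

`N` is normal in `G` and contained in the derived subgroup.  A degree over a character `φ` of `N`
whose determinant has non-trivial `r`-part `ν` is divisible by `r` or by the size, greater than
one, of the orbit of `ν`.
-/

set_option autoImplicit false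
set_option linter.style.haveILetI false
set_option linter.unusedSectionVars false

open Cfsg
open scoped ComplexConjugate

namespace Cfsg.Agent.Block.DegreeRel

open Cfsg.Agent Cfsg.Agent.Char

universe u

variable {G : Type u} [Group G]

/-- `χ` lies over `φ`. -/
def Over {N : Subgroup G} [Fintype N] (χ : IrrCharacter G) (φ : IrrCharacter N) : Prop :=
  classInner (fun n : N => (χ : G → ℂ) n) (φ : N → ℂ) ≠ 0

section basic

variable [Fintype G] {N : Subgroup G} [hN : N.Normal] [Fintype N]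

theorem exists_over (φ : IrrCharacter N) : ∃ χ : IrrCharacter G, Over χ φ :=
  PIto.exists_above N φ.2

theorem over_deg {χ : IrrCharacter G} {φ : IrrCharacter N} (h : Over χ φ) :
    ∃ e : ℕ, charDegree (χ : G → ℂ) =
      e * ((inertia N (φ : N → ℂ)).index * charDegree (φ : N → ℂ)) := by
  obtain ⟨e, he⟩ := IsChar.classInner_nat (IsChar.res (irr_isChar χ) N) (irr_isChar φ)
  refine ⟨e, ?_⟩
  have hc := clifford_one N χ.2 φ.2 h
  rw [he, charDeg_spec' χ, charDeg_spec' φ] at hc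
  rw [← mul_assoc]
  exact_mod_cast hc

theorem deg_dvd {χ : IrrCharacter G} {φ : IrrCharacter N} (h : Over χ φ) :
    charDegree (φ : N → ℂ) ∣ charDegree (χ : G → ℂ) := by
  obtain ⟨e, he⟩ := over_deg h
  exact he ▸ (dvd_mul_left _ _).mul_left e

theorem orbit_dvd {χ : IrrCharacter G} {φ : IrrCharacter N} (h : Over χ φ) :
    (inertia N (φ : N → ℂ)).index ∣ charDegree (χ : G → ℂ) := by
  obtain ⟨e, he⟩ := over_deg h
  exact he ▸ (dvd_mul_right _ _).mul_left e

theorem over_mem {χ : IrrCharacter G} {φ : IrrCharacter N} (h : Over χ φ)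
    (hφ : (φ : N → ℂ) ≠ fun _ => 1) : charDegree (χ : G → ℂ) ∈ relCharDegrees N := by
  refine ⟨χ, ?_, rfl⟩
  by_contra hc
  push Not at hc
  refine h ?_
  have e : (fun n : N => (χ : G → ℂ) n) = (χ : G → ℂ) 1 • (fun _ : N => (1 : ℂ)) := funext fun n => by
    rw [Pi.smul_apply, smul_eq_mul, mul_one, hc n n.2]
  rw [e, classInner_smul_left, classInner_irr_ne isIrr_one φ.2 (Ne.symm hφ), mul_zero]

theorem mem_exists {d : ℕ} (hd : d ∈ relCharDegrees N) :
    ∃ (χ : IrrCharacter G) (φ : IrrCharacter N), Over χ φ ∧ (φ : N → ℂ) ≠ (fun _ => 1) ∧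
      charDegree (χ : G → ℂ) = d := by
  obtain ⟨χ, ⟨x, hx, hx1⟩, hd⟩ := hd
  obtain ⟨φ, hφ⟩ := IsChar.exists_constituent' (IsChar.res (irr_isChar χ) N)
    (show (χ : G → ℂ) ((1 : N) : G) ≠ 0 from irr_one_ne_zero χ)
  refine ⟨χ, φ, hφ, fun h1 => ?_, hd⟩
  rw [h1] at hφ
  rcases avgN_irr N χ.2 with ⟨h0, -⟩ | ⟨hk, -⟩
  · exact hφ h0
  · exact hx1 (hk ⟨x, hx⟩)

/-- The determinant as a homomorphism. -/
noncomputable def detH (φ : IrrCharacter N) : N →* ℂˣ :=
  (isCharacter_detChar φ.2).choose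

theorem detH_spec (φ : IrrCharacter N) : detChar (φ : N → ℂ) = fun n => (detH φ n : ℂ) :=
  (isCharacter_detChar φ.2).choose_spec

theorem hom_ext_coe {H : Type*} [Group H] {a b : H →* ℂˣ} (h : ∀ x, (a x : ℂ) = b x) : a = b :=
  MonoidHom.ext fun x => Units.ext (h x)

theorem detH_mul_linear (φ ψ : IrrCharacter N) (l : N →* ℂˣ)
    (h : (ψ : N → ℂ) = fun n => (l n : ℂ) * (φ : N → ℂ) n) :
    detH ψ = l ^ charDegree (φ : N → ℂ) * detH φ := by
  refine hom_ext_coe fun n => ?_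
  have e := congrFun (detH_spec ψ) n
  rw [h, detChar_mul_linear φ.2 (charDeg_spec' φ) l] at e
  dsimp only at e
  rw [congrFun (detH_spec φ) n] at e
  simpa using e.symm

theorem detH_linear (φ : IrrCharacter N) (l : N →* ℂˣ) (h : (φ : N → ℂ) = fun n => (l n : ℂ)) :
    detH φ = l := by
  refine hom_ext_coe fun n => ?_
  have e := congrFun (detH_spec φ) n
  rw [h, detChar_linear] at e
  exact e.symm

/-- The stabiliser of a linear character of `N`. -/
abbrev stab (ν : N →* ℂˣ) : Subgroup G := inertia N fun n => (ν n : ℂ)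

theorem stab_pow (ν : N →* ℂˣ) (k : ℕ) : stab ν ≤ stab (ν ^ k) := by
  intro g hg
  rw [mem_inertia] at hg ⊢
  funext n
  have h := congrFun hg n
  simp only [conjN_apply] at h ⊢
  rw [MonoidHom.pow_apply, MonoidHom.pow_apply, Units.val_pow_eq_pow_val, Units.val_pow_eq_pow_val, h]

theorem stab_mul (ν μ : N →* ℂˣ) : stab ν ⊓ stab μ ≤ stab (ν * μ) := by
  rintro g ⟨h1, h2⟩
  change conjN N g _ = _ at h1 h2
  rw [mem_inertia]
  funext n
  have e1 := congrFun h1 n
  have e2 := congrFun h2 n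
  simp only [conjN_apply, MonoidHom.mul_apply, Units.val_mul] at e1 e2 ⊢
  rw [e1, e2]

theorem inertia_le_det (φ : IrrCharacter N) : inertia N (φ : N → ℂ) ≤ stab (detH φ) := by
  intro g hg
  rw [mem_inertia] at hg ⊢
  funext n
  have h := detChar_comp φ.2 (conjEquivN N g).toMonoidHom φ.2 (fun x => by
    have := congrFun hg x
    rwa [conjN_eq_comp] at this) n
  rw [detH_spec] at h
  rw [conjN_eq_comp]
  exact h.symm

end basic

/-- The exponent cutting out the `r`-part. -/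
noncomputable def aExp (N : Type*) (r : ℕ) : ℕ :=
  if h : Nat.Coprime (ordProj[r] (Nat.card N)) (ordCompl[r] (Nat.card N)) then
    Nat.chineseRemainder h 1 0
  else 0

section rpart

variable {N : Type u} [Group N] [Finite N] {r : ℕ}

theorem aExp_spec (hr : r.Prime) :
    aExp N r ≡ 1 [MOD ordProj[r] (Nat.card N)] ∧ aExp N r ≡ 0 [MOD ordCompl[r] (Nat.card N)] := by
  have h : Nat.Coprime (ordProj[r] (Nat.card N)) (ordCompl[r] (Nat.card N)) :=
    (Nat.coprime_ordCompl hr Nat.card_pos.ne').pow_left _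
  rw [aExp, dif_pos h]
  exact (Nat.chineseRemainder h 1 0).2

theorem ord_dvd (l : N →* ℂˣ) (k : ℕ) (h : l ^ k = 1) : orderOf l ∣ k :=
  orderOf_dvd_of_pow_eq_one (x := l) (MonoidHom.ext fun n => by
    have h' := DFunLike.congr_fun h n
    simpa using h')

/-- The `r`-part of a linear character. -/
noncomputable def pp (r : ℕ) (l : N →* ℂˣ) : N →* ℂˣ := l ^ aExp N r

theorem pow_card (l : N →* ℂˣ) : l ^ Nat.card N = 1 := MonoidHom.ext fun n => by
  rw [MonoidHom.pow_apply, ← map_pow, pow_card_eq_one', map_one, MonoidHom.one_apply]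

theorem pp_pow (hr : r.Prime) (l : N →* ℂˣ) : pp r l ^ ordProj[r] (Nat.card N) = 1 := by
  obtain ⟨c, hc⟩ := Nat.modEq_zero_iff_dvd.1 (aExp_spec (N := N) hr).2
  refine MonoidHom.ext fun n => ?_
  have hn : l n ^ Nat.card N = 1 := by rw [← map_pow, pow_card_eq_one', map_one]
  rw [pp, MonoidHom.pow_apply, MonoidHom.pow_apply, MonoidHom.one_apply, ← pow_mul, hc,
    mul_right_comm, mul_comm (ordCompl[r] (Nat.card N)), Nat.ordProj_mul_ordCompl_eq_self, pow_mul,
    hn, one_pow]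

theorem pp_of (hr : r.Prime) {l : N →* ℂˣ} (h : l ^ ordProj[r] (Nat.card N) = 1) : pp r l = l := by
  refine MonoidHom.ext fun n => ?_
  rw [pp, MonoidHom.pow_apply]
  conv_rhs => rw [← pow_one (l n)]
  refine pow_eq_pow_iff_modEq.2 ((aExp_spec hr).1.of_dvd (orderOf_dvd_of_pow_eq_one ?_))
  rw [← MonoidHom.pow_apply, h, MonoidHom.one_apply]

theorem pp_mul (l l' : N →* ℂˣ) : pp r (l * l') = pp r l * pp r l' := MonoidHom.ext fun n => by
  simp only [pp, MonoidHom.pow_apply, MonoidHom.mul_apply, mul_pow]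

theorem exists_pp_ne {l : N →* ℂˣ} (h : l ≠ 1) : ∃ r, r.Prime ∧ pp r l ≠ 1 := by
  obtain ⟨r, hr, hro⟩ := Nat.exists_prime_and_dvd (n := orderOf l) fun e => h (orderOf_eq_one_iff.1 e)
  refine ⟨r, hr, fun h1 => ?_⟩
  have h2 : r ∣ aExp N r := hro.trans (ord_dvd l _ h1)
  have h3 : r ∣ Nat.card N := hro.trans (ord_dvd l _ (pow_card l))
  have h4 : aExp N r ≡ 1 [MOD r] :=
    (aExp_spec hr).1.of_dvd (dvd_pow_self r (hr.factorization_pos_of_dvd Nat.card_pos.ne' h3).ne')
  exact hr.ne_one (Nat.dvd_one.1 ((Nat.ModEq.dvd_iff h4 dvd_rfl).1 h2))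

/-- A non-trivial linear character of `r`-power order. -/
def Key (r : ℕ) (ν : N →* ℂˣ) : Prop := ν ≠ 1 ∧ ν ^ ordProj[r] (Nat.card N) = 1

theorem Key.orderOf_eq (hr : r.Prime) {ν : N →* ℂˣ} (h : Key r ν) :
    ∃ j, orderOf ν = r ^ j ∧ r ∣ orderOf ν := by
  obtain ⟨j, -, hj⟩ := (Nat.dvd_prime_pow hr).1 (ord_dvd ν _ h.2)
  refine ⟨j, hj, hj ▸ dvd_pow_self r fun h0 => h.1 ?_⟩
  rwa [h0, pow_zero, orderOf_eq_one_iff] at hj

theorem Key.pow_ne (hr : r.Prime) {ν : N →* ℂˣ} (h : Key r ν) {k : ℕ} (hk : ¬ r ∣ k) : ν ^ k ≠ 1 := by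
  obtain ⟨-, -, hd⟩ := h.orderOf_eq hr
  exact fun h1 => hk (hd.trans (ord_dvd ν _ h1))

theorem Key.dvd_index (hr : r.Prime) {ν : N →* ℂˣ} (h : Key r ν) : r ∣ (commutator N).index := by
  obtain ⟨-, -, hd⟩ := h.orderOf_eq hr
  refine hd.trans (orderOf_dvd_of_pow_eq_one (x := ν) (MonoidHom.ext fun n => ?_))
  rw [MonoidHom.pow_apply, ← map_pow, MonoidHom.one_apply]
  exact Abelianization.commutator_subset_ker ν ((commutator N).pow_index_mem n)

theorem exists_key (hr : r.Prime) (h : r ∣ (commutator N).index) : ∃ ν : N →* ℂˣ, Key r ν := by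
  haveI := Fact.mk hr
  rw [Subgroup.index_eq_card] at h
  obtain ⟨a, ha⟩ := exists_prime_orderOf_dvd_card' (G := Abelianization N) r h
  have ha1 : a ≠ 1 := fun h1 => hr.ne_one (by rw [← ha, h1, orderOf_one])
  obtain ⟨φ, hφ⟩ := CommGroup.exists_apply_ne_one_of_hasEnoughRootsOfUnity (Abelianization N) ℂ ha1
  obtain ⟨n, rfl⟩ : ∃ n, Abelianization.of n = a := QuotientGroup.mk_surjective a
  refine ⟨pp r (φ.comp Abelianization.of), fun h1 => hφ ?_, pp_pow hr _⟩
  have h3 : r ∣ Nat.card N := by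
    rw [← Subgroup.index_mul_card (commutator N), Subgroup.index_eq_card]
    exact h.mul_right _
  have h4 : aExp N r ≡ 1 [MOD r] :=
    (aExp_spec hr).1.of_dvd (dvd_pow_self r (hr.factorization_pos_of_dvd Nat.card_pos.ne' h3).ne')
  have h5 := DFunLike.congr_fun h1 n
  rw [pp, MonoidHom.pow_apply, MonoidHom.one_apply, MonoidHom.comp_apply] at h5
  rw [← h5]
  conv_lhs => rw [← pow_one (φ _)]
  refine pow_eq_pow_iff_modEq.2 (h4.symm.of_dvd ?_)
  exact (orderOf_map_dvd φ _).trans (ha ▸ dvd_rfl)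

end rpart

variable [Fintype G] {N : Subgroup G} [hN : N.Normal] [Fintype N] {r : ℕ}

/-- The main dichotomy. -/
theorem bad_or_orbit (hNG : N ≤ commutator G) (hr : r.Prime) {χ : IrrCharacter G}
    {φ : IrrCharacter N} (h : Over χ φ) (hν : pp r (detH φ) ≠ 1)
    (hχ : ¬ r ∣ charDegree (χ : G → ℂ)) :
    (stab (pp r (detH φ))).index ≠ 1 ∧
      (stab (pp r (detH φ))).index ∣ charDegree (χ : G → ℂ) := by
  classical
  haveI := Fact.mk hr
  set ν := pp r (detH φ) with hνdef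
  have hle : inertia N (φ : N → ℂ) ≤ stab ν := (inertia_le_det φ).trans (stab_pow _ _)
  refine ⟨fun h1 => hν ?_, (Subgroup.index_dvd_of_le hle).trans (orbit_dvd h)⟩
  rw [Subgroup.index_eq_one] at h1
  obtain ⟨S⟩ : Nonempty (Sylow r G) := inferInstance
  set R := N ⊔ (S : Subgroup G) with hR
  haveI := Fintype.ofFinite R
  obtain ⟨k, hk⟩ := PPrime.relIndex_sup_pow S N
  set NR := N.subgroupOf R with hNR
  haveI : NR.Normal := Subgroup.Normal.subgroupOf inferInstance _
  haveI := Fintype.ofFinite NR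
  obtain ⟨ψ, hψc, hψp⟩ := PPrime.exists_constituent_pPrime (IsChar.res (irr_isChar χ) R)
    (show (χ : G → ℂ) ((1 : R) : G) = _ from charDeg_spec' χ) hχ
  obtain ⟨θ, hθ⟩ := IsChar.exists_constituent' (IsChar.res (irr_isChar ψ) NR)
    (show (ψ : R → ℂ) ((1 : NR) : R) ≠ 0 from irr_one_ne_zero ψ)
  obtain ⟨-, hdeg⟩ := PPrime.inertia_of_pPrime (G := R) (L := NR) hk ψ hψp θ hθ
  have hψθ : (fun x : NR => (ψ : R → ℂ) x) = (θ : NR → ℂ) :=
    eq_of_constituent_degree (IsChar.res (irr_isChar ψ) NR) θ.2 hθ (by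
      rw [charDeg_spec' θ, ← hdeg, Subgroup.coe_one, charDeg_spec' ψ])
  let e : NR ≃* N := Subgroup.subgroupOfEquivOfLe le_sup_left
  let ι : N →* R := NR.subtype.comp e.symm.toMonoidHom
  have hirr : IsIrrCharacter N (fun n => (ψ : R → ℂ) (ι n)) := by
    have := IsIrr.comp_mulEquiv e.symm θ.2
    rw [← hψθ] at this
    exact this
  let φ' : IrrCharacter N := ⟨_, hirr⟩
  have hιc : ∀ n : N, ((ι n : R) : G) = n := fun n => rfl
  have hφ' : Over χ φ' := by
    have := Cfsg.Agent.Block.PPartDerived.res_trans ι (IsChar.res (irr_isChar χ) R) ψ φ' hψc (by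
      show classInner (φ' : N → ℂ) (φ' : N → ℂ) ≠ 0
      rw [classInner_self_irr φ'.2]; exact one_ne_zero)
    exact this
  obtain ⟨g, hg⟩ : ∃ g : G, conjN N g (φ : N → ℂ) = (φ' : N → ℂ) :=
    (mem_conjOrbit N).1 ((mem_conjOrbit N).2 (exists_conj_of_constituents N χ.2 φ.2 φ'.2 h hφ'))
  obtain ⟨δ, hδ⟩ := isCharacter_detChar ψ.2
  have hν' : ∀ n : N, (δ ^ aExp N r) (ι n) = ν n := by
    intro n
    refine Units.ext ?_
    have e1 : detChar (φ' : N → ℂ) n = (δ (ι n) : ℂ) := by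
      rw [detChar_comp ψ.2 ι φ'.2 (fun _ => rfl) n, hδ]
    have e2 : detChar (φ' : N → ℂ) n = (detH φ (conjEquivN N g n) : ℂ) := by
      rw [detChar_comp φ.2 (conjEquivN N g).toMonoidHom φ'.2 (fun x => by
        rw [← hg, conjN_eq_comp]; rfl) n, detH_spec]
      rfl
    rw [MonoidHom.pow_apply, Units.val_pow_eq_pow_val, ← e1, e2]
    have h3 := congrFun ((mem_inertia N).1 (h1 ▸ Subgroup.mem_top g : g ∈ stab ν)) n
    rw [conjN_eq_comp] at h3
    refine Eq.trans ?_ h3
    rw [hνdef, pp]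
    simp
  obtain ⟨χ₀, hχ₀, hres⟩ := Ext.exists_extension_of_witness (θ := fun n : N => (ν n : ℂ))
    (isIrr_linear ν) (fun g n => by
      have h3 := congrFun ((mem_inertia N).1 (h1 ▸ Subgroup.mem_top g : g ∈ stab ν)) n
      rw [conjN_apply] at h3
      exact h3) (d := 1) (by simp) fun q hq => by
    by_cases hqr : q = r
    · subst hqr
      refine Or.inr (Or.inr ⟨R, le_sup_left, fun x => ((δ ^ aExp N q) x : ℂ),
        fun hd => S.not_dvd_index (hd.trans (Subgroup.index_dvd_of_le le_sup_right)),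
        isIrr_linear _, fun n => ?_⟩)
      dsimp only
      rw [← hν' n]
      rfl
    · refine Or.inl ⟨hq.not_dvd_one, fun hd => hqr ?_⟩
      rw [detChar_linear, orderOf_unitsFun] at hd
      exact (Nat.prime_dvd_prime_iff_eq hq hr).1
        (hq.dvd_of_dvd_pow (hd.trans (ord_dvd _ _ (pp_pow hr _))))
  obtain ⟨μ, hμ⟩ := linearHom_of_isCharacter (IsIrr.isCharacter hχ₀) (by
    rw [← Subgroup.coe_one N, hres, map_one, Units.val_one])
  refine MonoidHom.ext fun n => Units.ext ?_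
  rw [← hres n, congrFun hμ (n : G), Abelianization.commutator_subset_ker μ (hNG n.2)]
  rfl

end Cfsg.Agent.Block.DegreeRel
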