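import Cfsg.Agent.Lib.Block.DegreeRel.Graph

/-!
# Degrees without a key, for a soluble normal subgroup
-/

set_option autoImplicit false
set_option linter.style.haveILetI false
set_option linter.unusedSectionVars false

open Cfsg
open scoped ComplexConjugate

namespace Cfsg.Agent.Block.DegreeRel

open Cfsg.Agent Cfsg.Agent.Char

universe u

/-- A character with irreducible restriction times one with `K` in its kernel is irreducible. -/
theorem irr_mul_of_res {H : Type u} [Group H] [Fintype H] (K : Subgroup H) [K.Normal] [Fintype K]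
    {φ η : H → ℂ} (hφ : IsIrrCharacter H φ) (hη : IsIrrCharacter H η)
    (hres : IsIrrCharacter K (fun x : K => φ x)) (hker : ∀ x : K, η x = η 1) :
    IsIrrCharacter H (φ * η) := by
  classical
  set ξ : H → ℂ := φ * fun g => conj (φ g) with hξ
  obtain ⟨hA, -⟩ := gallagher (N := K) hφ hφ hres (by rw [classInner_self_irr hres]; exact one_ne_zero)
  have h1 : avgN K ξ = fun _ => 1 := by
    refine eq_of_constituent_irr hA isIrr_one ?_
    have e1 : avgN K (fun _ : H => (1 : ℂ)) = fun _ => 1 := by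
      funext g
      simp [avgN, Nat.card_pos.ne']
    have e2 : classInner ξ (fun _ => 1) = classInner φ φ := by
      simp [classInner, ξ]
    rw [classInner_avgN, e1, e2, classInner_self_irr hφ]
    exact one_ne_zero
  refine IsChar.irr_of_norm_one (IsChar.mul (IsIrr.isCharacter hφ) (IsIrr.isCharacter hη)) ?_
  set F : H → ℂ := η * fun g => conj (η g) with hF
  have hFavg : avgN K F = F := by
    funext g
    have hinv : ∀ n : K, η ((n : H) * g) = η g := fun n =>
      char_mul_ker (IsIrr.isCharacter hη) (hker n) g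
    simp [avgN, F, hinv, Nat.card_pos.ne']
  have e : classInner (φ * η) (φ * η) = classInner ξ F := by
    simp only [classInner, ξ, F, Pi.mul_apply, map_mul, Complex.conj_conj]
    congr 1
    exact Finset.sum_congr rfl fun g _ => by ring
  have e3 : classInner (fun _ => (1 : ℂ)) F = classInner η η := by
    simp only [classInner, F, Pi.mul_apply, map_mul, Complex.conj_conj, one_mul]
    congr 1
    exact Finset.sum_congr rfl fun g _ => by ring
  rw [e, ← hFavg, ← classInner_avgN, h1, e3, classInner_self_irr hη]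

variable {G : Type u} [Group G] [Fintype G] {N : Subgroup G} [hN : N.Normal] [Fintype N]

/-- The degree has a key for some prime of `[N : N']`. -/
def HasB (d : Vtx N) : Prop := ∃ s : ℕ, s.Prime ∧ s ∣ (commutator N).index ∧ InB s d

theorem char_mul_linear_deg (l : N →* ℂˣ) (φ : N → ℂ) :
    charDegree (fun n => (l n : ℂ) * φ n) = charDegree φ := by
  simp [charDegree]

/-- A degree without a key is divisible by every prime of `[N' : N'']`. -/
theorem no_key_dvd (hNG : N ≤ commutator G) [Group.IsSolvable N] {r : ℕ} (hr : r.Prime)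
    (hrm : r ∣ (commutator N).index) (hdisc : ¬ (rGraph N).Preconnected) {d : Vtx N}
    (hrd : ¬ r ∣ (d : ℕ)) (hd : ¬ HasB d) :
    (commutator ↥(commutator N)).index ≠ 1 ∧
      ∀ q : ℕ, q.Prime → q ∣ (commutator ↥(commutator N)).index → q ∣ (d : ℕ) := by
  classical
  haveI := Fintype.ofFinite ↥(commutator N)
  obtain ⟨χ, φ, hχ, hφ1, hχd⟩ := mem_exists d.2
  have hφd : charDegree (φ : N → ℂ) ∣ (d : ℕ) := hχd ▸ deg_dvd hχ
  have hdm : ∀ s : ℕ, s.Prime → s ∣ (commutator N).index → ¬ s ∣ (d : ℕ) := fun s hs hsm h =>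
    hrd ((same_side hNG hs hr hsm hrm hdisc d).1 h)
  have hnl : charDegree (φ : N → ℂ) ≠ 1 := by
    intro h1
    obtain ⟨μ, hμ⟩ := linearHom_of_isCharacter (IsIrr.isCharacter φ.2) (by
      rw [charDeg_spec' φ, h1, Nat.cast_one])
    have hμ1 : μ ≠ 1 := fun e => hφ1 (by rw [hμ, e]; funext n; simp)
    obtain ⟨s, hs, hsμ⟩ := exists_pp_ne hμ1
    have hsm : s ∣ (commutator N).index := Key.dvd_index hs ⟨hsμ, pp_pow hs μ⟩
    exact hd ⟨s, hs, hsm, inB_of_over hNG hs hχ hχd (by rw [detH_linear φ μ hμ]; exact hsμ)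
      (hdm s hs hsm)⟩
  refine ⟨fun h1 => hnl ?_, fun q hq hqm => ?_⟩
  · have hbot : commutator N = ⊥ := by
      by_contra hne
      haveI : Nontrivial ↥(commutator N) := (Subgroup.nontrivial_iff_ne_bot _).2 hne
      exact (IsSolvable.commutator_lt_top_of_nontrivial ↥(commutator N)).ne (Subgroup.index_eq_one.1 h1)
    have hab : ∀ a b : N, a * b = b * a := fun a b => by
      have h := Subgroup.commutator_mem_commutator (Subgroup.mem_top a) (Subgroup.mem_top b)
      rw [show ⁅(⊤ : Subgroup N), (⊤ : Subgroup N)⁆ = (⊥ : Subgroup N) from hbot,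
        Subgroup.mem_bot] at h
      exact (commutatorElement_eq_one_iff_commute.1 h).eq
    have h := IsIrr.one_of_comm hab φ.2
    rw [charDeg_spec' φ] at h
    exact_mod_cast h
  by_contra hqd
  set M := commutator N with hM
  let K : Subgroup N :=
    (⨅ ν : {ν : M →* ℂˣ // Key q ν}, (ν : M →* ℂˣ).ker).map M.subtype
  have hKmem : ∀ x : N, x ∈ K ↔ ∃ hx : x ∈ M, ∀ ν : M →* ℂˣ, Key q ν → ν ⟨x, hx⟩ = 1 := by
    intro x
    constructor
    · rintro ⟨y, hy, rfl⟩
      exact ⟨y.2, fun ν hν => (Subgroup.mem_iInf.1 hy) ⟨ν, hν⟩⟩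
    · rintro ⟨hx, h⟩
      exact ⟨⟨x, hx⟩, Subgroup.mem_iInf.2 fun ν => h ν.1 ν.2, rfl⟩
  have hkeyconj : ∀ (g : N) (ν : M →* ℂˣ), Key q ν → Key q (ν.comp (conjEquivN M g).toMonoidHom) := by
    intro g ν hν
    refine ⟨fun h => hν.1 (MonoidHom.ext fun x => ?_), MonoidHom.ext fun x => ?_⟩
    · have := DFunLike.congr_fun h ((conjEquivN M g).symm x)
      simpa using this
    · have := DFunLike.congr_fun hν.2 (conjEquivN M g x)
      simpa using this
  haveI hKn : K.Normal := by
    refine ⟨fun x hx g => ?_⟩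
    obtain ⟨hxM, h⟩ := (hKmem x).1 hx
    exact (hKmem _).2 ⟨(inferInstance : M.Normal).conj_mem x hxM g, fun ν hν => by
      have := h _ (hkeyconj g ν hν)
      exact this⟩
  haveI := Fintype.ofFinite K
  -- coprimality with the index of `K`
  have hKM : K ≤ M := Subgroup.map_subtype_le _
  have hsprime : ∀ s : ℕ, s.Prime → s ∣ K.relIndex M → s = q := by
    intro s hs hsd
    haveI := Fact.mk hs
    haveI : (K.subgroupOf M).Normal := Subgroup.Normal.subgroupOf inferInstance _
    rw [Subgroup.relIndex, Subgroup.index_eq_card] at hsd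
    obtain ⟨a, ha⟩ := exists_prime_orderOf_dvd_card' (G := ↥M ⧸ K.subgroupOf M) s hsd
    obtain ⟨x, rfl⟩ := QuotientGroup.mk_surjective a
    have hxK : (x : N) ∉ K := fun h => hs.ne_one (by
      rw [← ha, orderOf_eq_one_iff, QuotientGroup.eq_one_iff]; exact h)
    have hxs : ((x ^ s : M) : N) ∈ K := by
      have h : ((x ^ s : M) : ↥M ⧸ K.subgroupOf M) = 1 := by
        rw [QuotientGroup.mk_pow, ← ha, pow_orderOf_eq_one]
      exact (QuotientGroup.eq_one_iff (N := K.subgroupOf M) (x ^ s)).1 h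
    obtain ⟨ν, hν, hνx⟩ : ∃ ν : M →* ℂˣ, Key q ν ∧ ν x ≠ 1 := by
      by_contra hno
      push Not at hno
      exact hxK ((hKmem _).2 ⟨x.2, hno⟩)
    obtain ⟨hy, h⟩ := (hKmem _).1 hxs
    have h1 : ν x ^ s = 1 := by rw [← map_pow]; exact h ν hν
    have h2 : ν x ^ (q ^ (Nat.card M).factorization q) = 1 := by
      rw [← MonoidHom.pow_apply, hν.2, MonoidHom.one_apply]
    by_contra hne
    exact hνx (orderOf_eq_one_iff.1 (Nat.eq_one_of_dvd_coprimes
      (Nat.Coprime.pow_right _ ((Nat.coprime_primes hs hq).2 hne))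
      (orderOf_dvd_of_pow_eq_one h1) (orderOf_dvd_of_pow_eq_one h2)))
  have hcop : Nat.Coprime (charDegree (φ : N → ℂ)) K.index := by
    refine Nat.coprime_of_dvd fun s hs hsφ hsK => ?_
    rw [← Subgroup.relIndex_mul_index hKM, hs.dvd_mul] at hsK
    rcases hsK with h | h
    · obtain rfl := hsprime s hs h
      exact hqd (hsφ.trans hφd)
    · exact hdm s hs h (hsφ.trans hφd)
  have hφK : IsIrrCharacter K (fun x : K => (φ : N → ℂ) x) := by
    obtain ⟨θ, hθ⟩ := IsChar.exists_constituent' (IsChar.res (irr_isChar φ) K)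
      (show (φ : N → ℂ) ((1 : K) : N) ≠ 0 from irr_one_ne_zero φ)
    obtain ⟨e, he, hedvd⟩ := Ext.ratio_dvd_index' φ.2 θ.2 hθ
    have he1 : e = 1 := by
      refine Nat.eq_one_of_dvd_coprimes hcop ⟨charDegree (θ : K → ℂ), ?_⟩ hedvd
      rw [charDeg_spec' φ, charDeg_spec' θ] at he
      exact_mod_cast he
    rw [eq_of_constituent_degree (IsChar.res (irr_isChar φ) K) θ.2 hθ (by
      rw [Subgroup.coe_one, he, he1, Nat.cast_one, one_mul])]
    exact θ.2
  obtain ⟨ν, hν⟩ := exists_key hq hqm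
  obtain ⟨η, hη⟩ := exists_over (G := ↥N) (N := M) (linIrr ν)
  have hηconst : ∀ x : K, (η : N → ℂ) x = (η : N → ℂ) 1 := by
    intro x
    obtain ⟨hxM, hx⟩ := (hKmem x).1 x.2
    have hc := clifford M η.2 (linIrr ν).2 hη
    have e1 := congrFun hc ⟨(x : N), hxM⟩
    have e2 := congrFun hc 1
    simp only [Pi.smul_apply, Finset.sum_apply, Subgroup.coe_one] at e1 e2
    rw [e1, e2]
    congr 1
    refine Finset.sum_congr rfl fun f hf => ?_
    obtain ⟨g, rfl⟩ := (mem_conjOrbit M).1 hf
    have h := hx _ (hkeyconj g ν hν)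
    rw [conjN_eq_comp]
    show (ν (conjEquivN M g ⟨x, hxM⟩) : ℂ) = ν (conjEquivN M g 1)
    simp only [MonoidHom.comp_apply] at h
    rw [show ν (conjEquivN M g ⟨x, hxM⟩) = 1 from h, map_one, map_one]
  have hηnl : charDegree (η : N → ℂ) ≠ 1 := by
    intro h1
    obtain ⟨μ, hμ⟩ := linearHom_of_isCharacter (IsIrr.isCharacter η.2) (by
      rw [charDeg_spec' η, h1, Nat.cast_one])
    refine hη ?_
    rw [show (fun x : M => (η : N → ℂ) x) = fun _ => 1 from funext fun x => by
      rw [congrFun hμ x, Abelianization.commutator_subset_ker μ x.2, Units.val_one]]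
    exact classInner_irr_ne isIrr_one (linIrr ν).2 (Ne.symm (linIrr_ne (N := M) hν.1))
  have hηm : charDegree (η : N → ℂ) ∣ M.index := by
    obtain ⟨e, he, hedvd⟩ := Ext.ratio_dvd_index' η.2 (linIrr ν).2 hη
    rw [show ((linIrr ν : IrrCharacter M) : M → ℂ) 1 = 1 by simp [linIrr], mul_one,
      charDeg_spec' η] at he
    rw [show charDegree (η : N → ℂ) = e by exact_mod_cast he]
    exact hedvd
  let φ' : IrrCharacter N := ⟨_, irr_mul_of_res K φ.2 η.2 hφK hηconst⟩
  have hdeg' : charDegree (φ' : N → ℂ) = charDegree (φ : N → ℂ) * charDegree (η : N → ℂ) := by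
    have h : (φ' : N → ℂ) 1 = ((charDegree (φ : N → ℂ) * charDegree (η : N → ℂ) : ℕ) : ℂ) := by
      rw [Nat.cast_mul, ← charDeg_spec' φ, ← charDeg_spec' η]
      rfl
    exact PIto.charDeg_eq h
  have hφ'1 : (φ' : N → ℂ) ≠ fun _ => 1 := fun e => by
    have h2 : charDegree (φ' : N → ℂ) = 1 := by rw [e]; simp [charDegree]
    rw [hdeg'] at h2
    exact hnl (Nat.eq_one_of_mul_eq_one_right h2)
  obtain ⟨χ', hχ'⟩ := exists_over (G := G) φ'
  let c : Vtx N := ⟨_, over_mem hχ' hφ'1⟩
  have hc : charDegree (φ : N → ℂ) * charDegree (η : N → ℂ) ∣ (c : ℕ) := hdeg' ▸ deg_dvd hχ'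
  obtain ⟨s, hs, hsη⟩ := Nat.exists_prime_and_dvd hηnl
  have hrc : r ∣ (c : ℕ) := (same_side hNG hs hr (hsη.trans hηm) hrm hdisc c).1
    (hsη.trans ((dvd_mul_left _ _).trans hc))
  obtain ⟨-, hiff⟩ := dichotomy hNG hr hrm hdisc
  exact hrd (((hiff d c).1 (near_of_dvd hnl hφd ((dvd_mul_right _ _).trans hc)).reach).2 hrc)

end Cfsg.Agent.Block.DegreeRel
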